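import Mathlib
import Cfsg.Agent.Lib.Helper12.Card

/-! Class sizes (indices of centralizers) and normal subgroups. -/

set_option autoImplicit false

namespace Cfsg.Agent.Lib.Helper42

open Subgroup

/-- `|N : N ∩ C| = |CN : C|` for `N` normal. -/
theorem relIndex_eq_relIndex_sup {G : Type*} [Group G] [Finite G] (C N : Subgroup G) [N.Normal] :
    C.relIndex N = C.relIndex (C ⊔ N) := by
  have h1 := Cfsg.Agent.Lib.Helper12.relIndex_mul_card_inf N C
  rw [inf_comm] at h1
  have h2 := Cfsg.Agent.Lib.Helper12.relIndex_mul_card' (le_sup_left : C ≤ C ⊔ N)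
  have h3 := Cfsg.Agent.Lib.Helper12.card_sup_mul_card_inf C N
  have hC : 0 < Nat.card C := Nat.card_pos
  have hI : 0 < Nat.card (C ⊓ N : Subgroup G) := Nat.card_pos
  have : C.relIndex N * (Nat.card C * Nat.card (C ⊓ N : Subgroup G)) =
      C.relIndex (C ⊔ N) * (Nat.card C * Nat.card (C ⊓ N : Subgroup G)) := by
    calc C.relIndex N * (Nat.card C * Nat.card (C ⊓ N : Subgroup G))
        = Nat.card C * (C.relIndex N * Nat.card (C ⊓ N : Subgroup G)) := by ring
      _ = Nat.card C * Nat.card N := by rw [h1]
      _ = Nat.card (C ⊔ N : Subgroup G) * Nat.card (C ⊓ N : Subgroup G) := h3.symm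
      _ = C.relIndex (C ⊔ N) * Nat.card C * Nat.card (C ⊓ N : Subgroup G) := by rw [h2]
      _ = _ := by ring
  exact Nat.eq_of_mul_eq_mul_right (Nat.mul_pos hC hI) this

theorem relIndex_dvd_index_of_normal_right {G : Type*} [Group G] [Finite G] (C N : Subgroup G)
    [N.Normal] : C.relIndex N ∣ C.index := by
  rw [relIndex_eq_relIndex_sup]
  exact relIndex_dvd_index_of_le le_sup_left

theorem centralizer_singleton_subtype {G : Type*} [Group G] (N : Subgroup G) (x : N) :
    centralizer ({x} : Set N) = (centralizer ({(x : G)} : Set G)).subgroupOf N := by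
  ext z
  rw [mem_subgroupOf, mem_centralizer_singleton_iff, mem_centralizer_singleton_iff, Subtype.ext_iff]
  rfl

theorem index_centralizer_subtype {G : Type*} [Group G] (N : Subgroup G) (x : N) :
    (centralizer ({x} : Set N)).index = (centralizer ({(x : G)} : Set G)).relIndex N := by
  rw [centralizer_singleton_subtype]; rfl

/-- class sizes in a normal subgroup divide class sizes in the group. -/
theorem index_centralizer_subtype_dvd {G : Type*} [Group G] [Finite G] (N : Subgroup G) [N.Normal]
    (x : N) : (centralizer ({x} : Set N)).index ∣ (centralizer ({(x : G)} : Set G)).index := by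
  rw [index_centralizer_subtype]
  exact relIndex_dvd_index_of_normal_right _ N

end Cfsg.Agent.Lib.Helper42
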