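import Cfsg.Agent.Lib.Helper84.RO.Defs
import Cfsg.Agent.Lib.Helper82.Linear
import Cfsg.Agent.Lib.Helper82.Basic

set_option autoImplicit false

namespace Cfsg.Agent.Lib.Helper42.RO

open Cfsg Cfsg.Agent.Lib.Helper5 Cfsg.Agent.Lib.Helper84.RO
open scoped ComplexConjugate

/-- [RES] -/
theorem res_of_ov_invariant {G : Type*} [Group G] [Finite G] (L Y : Subgroup G) (hL : L.Normal)
    (hLY : L ≤ Y) (θ : L → ℂ) (hθ : IsCharacter L θ) (hθ1 : θ 1 = 1)
    (hinv : ∀ y ∈ Y, cjF hL θ y = θ) (χ : Y → ℂ) (hχ : IsIrrCharacter Y χ) :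
    Ov hLY χ θ ↔ ∀ l : L, χ ⟨l, hLY l.2⟩ = χ 1 * θ l := by
  classical
  haveI := Fintype.ofFinite G
  haveI : Fintype L := Fintype.ofFinite L
  haveI : Fintype Y := Fintype.ofFinite Y
  constructor
  · intro hov
    set N : Subgroup Y := L.subgroupOf Y with hN
    haveI : Fintype N := Fintype.ofFinite N
    have hNn : N.Normal := hL.subgroupOf Y
    let e : N ≃* L := Subgroup.subgroupOfEquivOfLe hLY
    have he : ∀ n : N, ((e n : L) : G) = ((n : Y) : G) := fun n => rfl
    set θ' : N → ℂ := fun n => θ (e n) with hθ'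
    have hirr : IsIrrCharacter N θ' := by
      have h := Cfsg.Agent.Lib.Helper83.isIrr_of_hom
        (((Cfsg.Agent.Lib.Helper82.linHom θ hθ hθ1).comp e.toMonoidHom).toHomUnits)
      exact h
    have hsum : ∑ n : N, χ n * conj (θ' n) = ∑ᶠ l : L, χ ⟨l, hLY l.2⟩ * conj (θ l) := by
      rw [finsum_eq_sum_of_fintype]
      refine Fintype.sum_equiv e.toEquiv _ _ ?_
      intro n
      rfl
    have hconst : classInner (fun n : N => χ n) θ' ≠ 0 := by
      unfold classInner
      rw [hsum]
      refine mul_ne_zero ?_ hov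
      exact inv_ne_zero (by exact_mod_cast (Nat.card_pos (α := N)).ne')
    have hinv' : ∀ g : Y, cjF hNn θ' g = θ' := by
      intro g
      funext n
      have h2 := congrFun (hinv g g.2) (e n)
      rw [cjF_apply] at h2 ⊢
      rw [hθ']
      simp only
      rw [← h2]
      congr 1
    have hcl := clifford_invariant hNn hχ hirr hconst hinv'
    have h1 := congrFun hcl 1
    simp only [Pi.smul_apply, smul_eq_mul, hθ', map_one, hθ1, mul_one] at h1
    intro l
    have h2 := congrFun hcl (e.symm l)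
    simp only [Pi.smul_apply, smul_eq_mul, hθ', MulEquiv.apply_symm_apply] at h2
    rw [← h1] at h2
    have h3 : ((e.symm l : N) : Y) = ⟨l, hLY l.2⟩ := by
      apply Subtype.ext
      rw [← he, MulEquiv.apply_symm_apply]
    rw [h3] at h2
    exact h2
  · intro h
    unfold Ov
    rw [finsum_eq_sum_of_fintype]
    have h2 : ∀ l : L, χ ⟨l, hLY l.2⟩ * conj (θ l) = χ 1 := by
      intro l
      rw [h l, mul_assoc, Cfsg.Agent.Lib.Helper82.isChar_linear_mul_conj hθ hθ1, mul_one]
    rw [Finset.sum_congr rfl (fun l _ => h2 l), Finset.sum_const, nsmul_eq_mul]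
    refine mul_ne_zero ?_ (Cfsg.Agent.Lib.Helper82.isIrr_one_ne_zero hχ)
    rw [Finset.card_univ]
    exact_mod_cast (Fintype.card_pos (α := L)).ne'

end Cfsg.Agent.Lib.Helper42.RO
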