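import Cfsg.Agent.Lib.Helper84.RO.Defs
import Cfsg.Agent.Lib.Helper82.Linear
import Cfsg.Agent.Lib.Helper19.LinExt

set_option autoImplicit false

namespace Cfsg.Agent.Lib.Helper42.RO

open Cfsg Cfsg.Agent.Lib.Helper5 Cfsg.Agent.Lib.Helper84.RO
open scoped ComplexConjugate

/-- [TR] -/
theorem exists_rl_transfer {T L₀ : Type*} [Group T] [Finite T] [Group L₀] (S : Subgroup T)
    (hS : Odd S.index) (j : L₀ →* S) (θ : L₀ → ℂ)
    (hinv : ∀ (t : T) (l : L₀), ∃ l' : L₀, ((j l' : S) : T) = t * (j l : S) * t⁻¹ ∧ θ l' = θ l)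
    (ν : S → ℂ) (hν : IsRL ν) (hνθ : ∀ l, ν (j l) = θ l) :
    ∃ μ : T → ℂ, IsRL μ ∧ ∀ l, μ ((j l : S) : T) = θ l := by
  obtain ⟨hc, h1, hre⟩ := hν
  set ν' : S →* ℂˣ := (Cfsg.Agent.Lib.Helper82.linHom ν hc h1).toHomUnits with hν'
  have hν'a : ∀ x, ((ν' x : ℂˣ) : ℂ) = ν x := by
    intro x
    rw [hν', MonoidHom.coe_toHomUnits, Cfsg.Agent.Lib.Helper82.linHom_apply]
  have hsq : ∀ x, ν' x ^ 2 = 1 := by
    intro x
    apply Units.ext
    rw [Units.val_pow_eq_pow_val, hν'a, Units.val_one, pow_two]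
    have h2 := Cfsg.Agent.Lib.Helper82.isChar_linear_mul_conj hc h1 x
    have h3 : conj (ν x) = ν x := Complex.conj_eq_iff_im.mpr (hre x)
    rwa [h3] at h2
  set M : T →* ℂˣ := MonoidHom.transfer ν' with hM
  refine ⟨fun t => ((M t : ℂˣ) : ℂ), ⟨?_, ?_, ?_⟩, ?_⟩
  · obtain ⟨n, ρ, _, h⟩ := Cfsg.Agent.Lib.Helper83.isIrr_of_hom M
    exact ⟨n, ρ, h⟩
  · simp
  · intro t
    have h2 := Cfsg.Agent.Lib.Helper19.transfer_pow_eq_one ν' 2 hsq t
    have h3 : ((M t : ℂˣ) : ℂ) * ((M t : ℂˣ) : ℂ) = 1 := by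
      have := congrArg Units.val h2
      rwa [Units.val_pow_eq_pow_val, Units.val_one, pow_two] at this
    rcases mul_self_eq_one_iff.mp h3 with h4 | h4 <;> simp [h4]
  · intro l
    have hn : ∀ t : T, t⁻¹ * ((j l : S) : T) * t ∈ S := by
      intro t
      obtain ⟨l', hl', _⟩ := hinv t⁻¹ l
      rw [inv_inv] at hl'
      rw [← hl']
      exact (j l').2
    have h2 := Cfsg.Agent.Lib.Helper19.transfer_apply_of_conj_mem ν' ((j l : S) : T) (ν' (j l)) hn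
      (by
        intro t h
        obtain ⟨l', hl', hθ'⟩ := hinv t⁻¹ l
        rw [inv_inv] at hl'
        have h3 : (⟨t⁻¹ * ((j l : S) : T) * t, h⟩ : S) = j l' := Subtype.ext hl'.symm
        rw [h3]
        apply Units.ext
        rw [hν'a, hν'a, hνθ, hνθ, hθ'])
    obtain ⟨k, hk⟩ := hS
    have h4 : ν' (j l) ^ S.index = ν' (j l) := by
      rw [hk, pow_succ, pow_mul, hsq, one_pow, one_mul]
    show ((M ((j l : S) : T) : ℂˣ) : ℂ) = θ l
    rw [hM, h2, h4, hν'a, hνθ]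

end Cfsg.Agent.Lib.Helper42.RO
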