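import Mathlib
import Cfsg.Agent.Lib.Helper11.Four
import Cfsg.Agent.Lib.Helper54.CoprimeGen

/-! REE ladder, rung CM : Burnside normal complement + a four-group acting on an odd group. -/

namespace Cfsg.Agent.Lib.Helper42.Ree

open Subgroup Cfsg.Agent.Lib.Helper11
open scoped Pointwise

theorem CM_top {G : Type*} [Group G] [Finite G] (M : Subgroup G) (a b : G)
    (ha : a ≠ 1) (hb : b ≠ 1) (hab : a ≠ b) (ha2 : a * a = 1) (hb2 : b * b = 1) (hc : a * b = b * a)
    (haM : a ∈ M) (hbM : b ∈ M)
    (hMa : ∀ x : G, a * x = x * a → x ∈ M) (hMb : ∀ x : G, b * x = x * b → x ∈ M)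
    (hMab : ∀ x : G, (a * b) * x = x * (a * b) → x ∈ M)
    (hMc : ∀ x ∈ M, ∀ y ∈ M, x * y = y * x)
    (hM4 : ∃ k, Odd k ∧ Nat.card M = 4 * k) (h3 : ¬ 3 ∣ Nat.card G) : M = ⊤ := by
  have : Fact (Nat.Prime 2) := ⟨Nat.prime_two⟩
  set E : Subgroup G := fourSub a b hc ha2 hb2 with hE
  have hEk : IsKleinFour E := isKleinFour_fourSub a b hc ha2 hb2 ha hb hab
  have hE4 : Nat.card E = 4 := hEk.card_four
  have hEM : E ≤ M := by
    rintro x (rfl | rfl | rfl | rfl)
    · exact M.one_mem
    · exact haM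
    · exact hbM
    · exact M.mul_mem haM hbM
  have haE : a ∈ E := Or.inr (Or.inl rfl)
  have hbE : b ∈ E := Or.inr (Or.inr (Or.inl rfl))
  have hEp : IsPGroup 2 E := IsPGroup.of_card (n := 2) (by rw [hE4]; norm_num)
  -- elements commuting with a nontrivial element of `E` lie in `M`
  have hME : ∀ e ∈ E, e ≠ 1 → ∀ x : G, e * x = x * e → x ∈ M := by
    rintro e (rfl | rfl | rfl | rfl) he x hx
    · exact absurd rfl he
    · exact hMa x hx
    · exact hMb x hx
    · exact hMab x hx
  -- 2-subgroups of `M` containing `E`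
  have htwo : ∀ Q : Subgroup G, IsPGroup 2 Q → Q ≤ M → E ≤ Q → Q = E := by
    intro Q hQ hQM hEQ
    obtain ⟨n, hn⟩ := hQ.exists_card_eq
    obtain ⟨k, hk, hMk⟩ := hM4
    have h1 : Nat.card Q ∣ 4 * k := hMk ▸ Subgroup.card_dvd_of_le hQM
    have h2 : (Nat.card Q).Coprime k := by
      rw [hn]
      apply Nat.Coprime.pow_left
      exact Nat.coprime_two_left.mpr hk
    have h4 : Nat.card Q ∣ 4 := h2.dvd_of_dvd_mul_right h1
    have h5 : Nat.card Q ≤ Nat.card E := by rw [hE4]; exact Nat.le_of_dvd (by norm_num) h4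
    exact (Subgroup.eq_of_le_of_card_ge hEQ h5).symm
  -- `E` is a Sylow 2-subgroup
  obtain ⟨P, hEP⟩ := hEp.exists_le_sylow
  have hPE : (P : Subgroup G) = E := by
    have hQ : (P : Subgroup G) ⊓ centralizer {a} = E := by
      apply htwo
      · exact P.2.to_le inf_le_left
      · intro x hx
        apply hMa
        exact (mem_centralizer_singleton_iff.mp hx.2).symm
      · intro x hx
        refine ⟨hEP hx, ?_⟩
        show x ∈ centralizer {a}
        rw [mem_centralizer_singleton_iff]
        exact hMc _ (hEM hx) _ haM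
    have hnt : Nontrivial (P : Subgroup G) := ⟨⟨⟨a, hEP haE⟩, 1, fun h => ha (congrArg Subtype.val h)⟩⟩
    have hcn : Nontrivial (center (P : Subgroup G)) := P.2.center_nontrivial
    obtain ⟨⟨z, hz⟩, hz1⟩ := exists_ne (1 : center (P : Subgroup G))
    have hz1' : (z : G) ≠ 1 := by
      intro h
      apply hz1
      apply Subtype.ext
      apply Subtype.ext
      exact h
    have hzc : ∀ x ∈ (P : Subgroup G), (z : G) * x = x * z := by
      intro x hx
      have := (mem_center_iff.mp hz) ⟨x, hx⟩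
      exact (congrArg Subtype.val this).symm
    have hzE : (z : G) ∈ E := by
      rw [← hQ]
      refine ⟨z.2, ?_⟩
      show (z : G) ∈ centralizer {a}
      rw [mem_centralizer_singleton_iff]
      exact hzc a (hEP haE)
    apply htwo _ P.2 _ hEP
    intro x hx
    exact hME z hzE hz1' x (hzc x hx)
  -- the normaliser of `E` lies in `M`
  have hNM : normalizer ((P : Subgroup G) : Set G) ≤ M := by
    intro g hg
    rw [hPE] at hg
    have hconj : ∀ x ∈ E, x ≠ 1 → g * x * g⁻¹ = a ∨ g * x * g⁻¹ = b ∨ g * x * g⁻¹ = a * b := by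
      intro x hx hx1
      have h1 : g * x * g⁻¹ ∈ E := (mem_normalizer_iff.mp hg x).mp hx
      rcases h1 with h | h | h | h
      · exfalso
        apply hx1
        have : x = g⁻¹ * (g * x * g⁻¹) * g := by group
        rw [this, h]; simp
      · exact Or.inl h
      · exact Or.inr (Or.inl h)
      · exact Or.inr (Or.inr h)
    have hcomm_of : ∀ x : G, g * x * g⁻¹ = x → x * g = g * x := by
      intro x hx
      have : g * x = g * x * g⁻¹ * g := by group
      rw [this, hx]
    have hcube : g ^ 3 * a * (g ^ 3)⁻¹ = a → g ∈ M := by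
      intro h
      have hcop : Nat.Coprime 3 (orderOf g) := by
        rw [Nat.Prime.coprime_iff_not_dvd Nat.prime_three]
        intro h'
        exact h3 (h'.trans (orderOf_dvd_natCard g))
      obtain ⟨m, hm⟩ := exists_pow_eq_self_of_coprime hcop
      apply hMa
      have h1 : Commute a (g ^ 3) := by
        have : g ^ 3 * a = g ^ 3 * a * (g ^ 3)⁻¹ * g ^ 3 := by group
        rw [h] at this
        exact this.symm
      have h2 : Commute a ((g ^ 3) ^ m) := h1.pow_right m
      rw [hm] at h2
      exact h2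
    have hc3 : ∀ x : G, g ^ 3 * x * (g ^ 3)⁻¹ = g * (g * (g * x * g⁻¹) * g⁻¹) * g⁻¹ := by
      intro x
      simp only [pow_succ, pow_zero, one_mul, mul_inv_rev, mul_assoc]
    have hmul : g * (a * b) * g⁻¹ = (g * a * g⁻¹) * (g * b * g⁻¹) := by group
    have e1 : b * (a * b) = a := by rw [hc, ← mul_assoc, hb2, one_mul]
    have e2 : a * b * a = b := by rw [hc, mul_assoc, ha2, mul_one]
    rcases hconj a haE ha with h | h | h
    · exact hMa g (hcomm_of a h)
    · rcases hconj b hbE hb with h' | h' | h'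
      · apply hMab g
        apply hcomm_of
        rw [hmul, h, h', hc]
      · exact hMb g (hcomm_of b h')
      · apply hcube
        rw [hc3, h, h', hmul, h, h', e1]
    · rcases hconj b hbE hb with h' | h' | h'
      · apply hcube
        rw [hc3, h, hmul, h, h', e2, h']
      · exact hMb g (hcomm_of b h')
      · exfalso
        apply hab
        have : g * a * g⁻¹ = g * b * g⁻¹ := h.trans h'.symm
        simpa using this
  have hNC : normalizer ((P : Subgroup G) : Set G) ≤ centralizer ((P : Subgroup G) : Set G) := by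
    intro g hg
    rw [mem_centralizer_iff]
    intro x hx
    have hx' : x ∈ E := by rw [← hPE]; exact hx
    exact hMc x (hEM hx') g (hNM hg)
  -- Burnside
  set O : Subgroup G := (MonoidHom.transferSylow P hNC).ker with hO
  have hcompl : IsComplement' O P := MonoidHom.ker_transferSylow_isComplement' P hNC
  have hOodd : ¬ 2 ∣ Nat.card O := MonoidHom.not_dvd_card_ker_transferSylow P hNC
  have hOM : O ≤ M := by
    have hEN : E ≤ normalizer (O : Set G) := by
      rw [normalizer_eq_top]; exact le_top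
    have hcop : (Nat.card E).Coprime (Nat.card O) := by
      rw [hE4, show (4 : ℕ) = 2 ^ 2 by norm_num]
      apply Nat.Coprime.pow_left
      exact (Nat.Prime.coprime_iff_not_dvd Nat.prime_two).mpr hOodd
    have hsolv : Group.IsSolvable E := by
      have := hEp.isNilpotent
      infer_instance
    have h1 := Cfsg.Agent.Lib.Helper54.le_genC 2 hEN hcop hsolv haE hbE hc
      (by rw [pow_two, ha2]) (by rw [pow_two, hb2]) hOodd
    refine h1.trans ?_
    unfold Cfsg.Agent.Lib.Helper54.genC
    apply sup_le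
    · intro x hx
      exact hMa x (mem_centralizer_singleton_iff.mp hx.2).symm
    · apply iSup_le
      intro i x hx
      have hx2 := (mem_centralizer_singleton_iff.mp hx.2).symm
      rcases Nat.even_or_odd' i with ⟨j, rfl | rfl⟩
      · rw [pow_mul, pow_two, ha2, one_pow, one_mul] at hx2
        exact hMb x hx2
      · rw [pow_succ, pow_mul, pow_two, ha2, one_pow, one_mul] at hx2
        exact hMab x hx2
  rw [eq_top_iff]
  intro g _
  have hg : g ∈ ((O : Set G) * ((P : Subgroup G) : Set G)) := by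
    rw [hcompl.mul_eq]; trivial
  obtain ⟨x, hx, y, hy, rfl⟩ := hg
  apply M.mul_mem (hOM hx)
  apply hEM
  rw [← hPE]; exact hy

theorem CM {G : Type*} [Group G] [Finite G] (C M : Subgroup G) (hMC : M ≤ C) (a b : G)
    (ha : a ≠ 1) (hb : b ≠ 1) (hab : a ≠ b) (ha2 : a * a = 1) (hb2 : b * b = 1) (hc : a * b = b * a)
    (haM : a ∈ M) (hbM : b ∈ M)
    (hMa : ∀ x ∈ C, a * x = x * a → x ∈ M) (hMb : ∀ x ∈ C, b * x = x * b → x ∈ M)
    (hMab : ∀ x ∈ C, (a * b) * x = x * (a * b) → x ∈ M)
    (hMc : ∀ x ∈ M, ∀ y ∈ M, x * y = y * x)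
    (hM4 : ∃ k, Odd k ∧ Nat.card M = 4 * k) (h3 : ¬ 3 ∣ Nat.card C) : C = M := by
  have key := CM_top (G := C) (M.subgroupOf C) ⟨a, hMC haM⟩ ⟨b, hMC hbM⟩
    (fun h => ha (congrArg Subtype.val h)) (fun h => hb (congrArg Subtype.val h))
    (fun h => hab (congrArg Subtype.val h)) (Subtype.ext ha2) (Subtype.ext hb2) (Subtype.ext hc)
    (mem_subgroupOf.mpr haM) (mem_subgroupOf.mpr hbM)
    (fun x hx => mem_subgroupOf.mpr (hMa x x.2 (congrArg Subtype.val hx)))
    (fun x hx => mem_subgroupOf.mpr (hMb x x.2 (congrArg Subtype.val hx)))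
    (fun x hx => mem_subgroupOf.mpr (hMab x x.2 (congrArg Subtype.val hx)))
    (fun x hx y hy => Subtype.ext (hMc x (mem_subgroupOf.mp hx) y (mem_subgroupOf.mp hy)))
    (by
      obtain ⟨k, hk, hk'⟩ := hM4
      refine ⟨k, hk, ?_⟩
      rw [← hk']
      exact Nat.card_congr (subgroupOfEquivOfLe hMC).toEquiv) h3
  apply le_antisymm _ hMC
  rwa [subgroupOf_eq_top] at key

end Cfsg.Agent.Lib.Helper42.Ree
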