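import Mathlib

/-! REE ladder, rung TR : in a perfect finite group with elementary abelian Sylow 2-subgroup of
order 8, the normaliser of the Sylow subgroup is transitive on its involutions. -/

namespace Cfsg.Agent.Lib.Helper42.Ree

open Subgroup

open scoped IsMulCommutative in
/-- no nontrivial element of an abelian Sylow `2`-subgroup of exponent 2 of a perfect group is
central in the normaliser -/
theorem TR_nofix {G : Type*} [Group G] [Finite G] (hG : commutator G = ⊤) (S : Sylow 2 G)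
    (hexp : ∀ x ∈ S, x * x = 1) (s : G) (hs : s ∈ S)
    (hfix : ∀ g ∈ Subgroup.normalizer ((S : Subgroup G) : Set G), g * s * g⁻¹ = s) : s = 1 := by
  have : Fact (Nat.Prime 2) := ⟨Nat.prime_two⟩
  have hcomm : ∀ a ∈ S, ∀ b ∈ S, a * b = b * a := by
    intro a ha b hb
    have h1 := hexp (a * b) (S.mul_mem ha hb)
    have h2 := hexp a ha
    have h3 := hexp b hb
    have ha' : a⁻¹ = a := inv_eq_of_mul_eq_one_left h2
    have hb' : b⁻¹ = b := inv_eq_of_mul_eq_one_left h3
    have : (a * b)⁻¹ = a * b := inv_eq_of_mul_eq_one_left h1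
    rw [mul_inv_rev, ha', hb'] at this
    exact this.symm
  have : IsMulCommutative (S : Subgroup G) :=
    ⟨⟨fun a b => Subtype.ext (hcomm a a.2 b b.2)⟩⟩
  have key : ∀ (k : ℕ) (g₀ : G), g₀⁻¹ * s ^ k * g₀ ∈ (S : Subgroup G) →
      g₀⁻¹ * s ^ k * g₀ = s ^ k := by
    intro k g₀ h
    obtain ⟨n, hn, h'⟩ := S.conj_eq_normalizer_conj_of_mem (s ^ k) g₀ (S.pow_mem hs k) h
    rw [h']
    have h1 : n⁻¹ * s * n = s := by
      have := hfix n⁻¹ (inv_mem hn)
      rwa [inv_inv] at this
    have h2 : n⁻¹ * s ^ k * n = (n⁻¹ * s * n) ^ k := by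
      have := conj_pow (a := n⁻¹) (b := s) (i := k)
      rw [inv_inv] at this
      exact this.symm
    rw [h2, h1]
  have h1 := MonoidHom.transfer_eq_pow (MonoidHom.id (S : Subgroup G)) s key
  have h2 : MonoidHom.transfer (MonoidHom.id (S : Subgroup G)) s = 1 := by
    have : commutator G ≤ (MonoidHom.transfer (MonoidHom.id (S : Subgroup G))).ker :=
      Abelianization.commutator_subset_ker _
    rw [hG] at this
    exact this (mem_top s)
  rw [h2] at h1
  have h3 : s ^ (S : Subgroup G).index = 1 := by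
    have := congrArg Subtype.val h1
    simpa using this.symm
  have hodd : ¬ 2 ∣ (S : Subgroup G).index := S.not_dvd_index
  have hodd' : Odd (S : Subgroup G).index := by
    rcases Nat.even_or_odd (S : Subgroup G).index with h | h
    · exact absurd h.two_dvd hodd
    · exact h
  obtain ⟨m, hm⟩ := hodd'
  rw [hm, pow_succ, pow_mul, pow_two, hexp s hs, one_pow, one_mul] at h3
  exact h3

/-- the conjugation orbit of `x` under a subgroup `N` -/
def cOrb {G : Type*} [Group G] (N : Subgroup G) (x : G) : Set G :=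
  {y | ∃ g ∈ N, g * x * g⁻¹ = y}

theorem cOrb_self {G : Type*} [Group G] (N : Subgroup G) (x : G) : x ∈ cOrb N x :=
  ⟨1, N.one_mem, by simp⟩

theorem cOrb_eq_of_mem {G : Type*} [Group G] (N : Subgroup G) {x y : G} (h : y ∈ cOrb N x) :
    cOrb N y = cOrb N x := by
  obtain ⟨g, hg, rfl⟩ := h
  ext z
  constructor
  · rintro ⟨k, hk, rfl⟩
    exact ⟨k * g, N.mul_mem hk hg, by group⟩
  · rintro ⟨k, hk, rfl⟩
    exact ⟨k * g⁻¹, N.mul_mem hk (N.inv_mem hg), by group⟩

theorem cOrb_disjoint {G : Type*} [Group G] (N : Subgroup G) {x y : G} (h : y ∉ cOrb N x) :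
    Disjoint (cOrb N x) (cOrb N y) := by
  rw [Set.disjoint_left]
  intro z hz hz'
  apply h
  rw [← cOrb_eq_of_mem N hz, cOrb_eq_of_mem N hz']
  exact cOrb_self N y

theorem cOrb_ncard_dvd {G : Type*} [Group G] (N H : Subgroup G) (x : G)
    (hx : ∀ h ∈ H, h * x * h⁻¹ = x) : (cOrb N x).ncard ∣ H.relIndex N := by
  letI : MulAction N G := MulAction.compHom G ((MulAut.conj : G →* MulAut G).comp N.subtype)
  have hsm : ∀ (g : N) (y : G), g • y = (g : G) * y * (g : G)⁻¹ := fun g y => rfl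
  have h1 : MulAction.orbit N x = cOrb N x := by
    ext y
    constructor
    · rintro ⟨g, rfl⟩
      exact ⟨g, g.2, rfl⟩
    · rintro ⟨g, hg, rfl⟩
      exact ⟨⟨g, hg⟩, rfl⟩
  rw [← h1, ← MulAction.index_stabilizer]
  apply Subgroup.index_dvd_of_le
  intro g hg
  rw [MulAction.mem_stabilizer_iff, hsm]
  exact hx _ (Subgroup.mem_subgroupOf.mp hg)

theorem TR {G : Type*} [Group G] [Finite G] (hG : commutator G = ⊤) (S : Sylow 2 G)
    (hcard : Nat.card S = 8) (hexp : ∀ x ∈ S, x * x = 1) :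
    ∀ a ∈ S, ∀ b ∈ S, a ≠ 1 → b ≠ 1 →
      ∃ g ∈ Subgroup.normalizer ((S : Subgroup G) : Set G), g * a * g⁻¹ = b := by
  have : Fact (Nat.Prime 2) := ⟨Nat.prime_two⟩
  set N := Subgroup.normalizer ((S : Subgroup G) : Set G) with hN
  have hSN : (S : Subgroup G) ≤ N := Subgroup.le_normalizer
  have hcomm : ∀ a ∈ S, ∀ b ∈ S, a * b = b * a := by
    intro a ha b hb
    have h1 := hexp (a * b) (S.mul_mem ha hb)
    have h2 := hexp a ha
    have h3 := hexp b hb
    have ha' : a⁻¹ = a := inv_eq_of_mul_eq_one_left h2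
    have hb' : b⁻¹ = b := inv_eq_of_mul_eq_one_left h3
    have : (a * b)⁻¹ = a * b := inv_eq_of_mul_eq_one_left h1
    rw [mul_inv_rev, ha', hb'] at this
    exact this.symm
  set T : Set G := ((S : Subgroup G) : Set G) \ {1} with hT
  have hTcard : T.ncard = 7 := by
    rw [hT, Set.ncard_sdiff (by simpa using S.one_mem)]
    have : ((S : Subgroup G) : Set G).ncard = 8 := by
      rw [← hcard]; rfl
    rw [this]; simp
  have hsub : ∀ x ∈ T, cOrb N x ⊆ T := by
    rintro x ⟨hx, hx1⟩ y ⟨g, hg, rfl⟩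
    refine ⟨?_, ?_⟩
    · exact (Subgroup.mem_normalizer_iff.mp hg x).mp hx
    · intro h
      apply hx1
      have h' : g * x * g⁻¹ = 1 := h
      have : x = g⁻¹ * (g * x * g⁻¹) * g := by group
      rw [this, h']; simp
  have hodd : ∀ x ∈ T, Odd (cOrb N x).ncard := by
    rintro x ⟨hx, -⟩
    have h1 : (cOrb N x).ncard ∣ (S : Subgroup G).relIndex N :=
      cOrb_ncard_dvd N S x (fun h hh => by rw [hcomm h hh x hx]; group)
    have h2 : (S : Subgroup G).relIndex N ∣ (S : Subgroup G).index :=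
      ⟨_, (Subgroup.relIndex_mul_index hSN).symm⟩
    have h3 : ¬ 2 ∣ (S : Subgroup G).index := S.not_dvd_index
    rcases Nat.even_or_odd (cOrb N x).ncard with h | h
    · exact absurd (h.two_dvd.trans (h1.trans h2)) h3
    · exact h
  have hne1 : ∀ x ∈ T, (cOrb N x).ncard ≠ 1 := by
    rintro x ⟨hx, hx1⟩ h
    apply hx1
    obtain ⟨y, hy⟩ := Set.ncard_eq_one.mp h
    have hxy : x = y := by
      have := cOrb_self N x
      rw [hy] at this
      exact this
    apply TR_nofix hG S hexp x hx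
    intro g hg
    have : g * x * g⁻¹ ∈ cOrb N x := ⟨g, hg, rfl⟩
    rw [hy] at this
    rw [hxy]
    rw [hxy] at this
    exact this
  have hge3 : ∀ x ∈ T, 3 ≤ (cOrb N x).ncard := by
    intro x hx
    obtain ⟨m, hm⟩ := hodd x hx
    have := hne1 x hx
    omega
  intro a ha b hb ha1 hb1
  by_contra hcon
  have haT : a ∈ T := ⟨ha, ha1⟩
  have hbT : b ∈ T := ⟨hb, hb1⟩
  have hbO : b ∉ cOrb N a := hcon
  have hdis := cOrb_disjoint N hbO
  have hU : (cOrb N a ∪ cOrb N b).ncard = (cOrb N a).ncard + (cOrb N b).ncard :=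
    Set.ncard_union_eq hdis (Set.toFinite _) (Set.toFinite _)
  have hUsub : cOrb N a ∪ cOrb N b ⊆ T := Set.union_subset (hsub a haT) (hsub b hbT)
  have hUle : (cOrb N a ∪ cOrb N b).ncard ≤ 7 := hTcard ▸ Set.ncard_le_ncard hUsub (Set.toFinite _)
  obtain ⟨m, hm⟩ := hodd a haT
  obtain ⟨m', hm'⟩ := hodd b hbT
  have h3a := hge3 a haT
  have h3b := hge3 b hbT
  have hU6 : (cOrb N a ∪ cOrb N b).ncard = 6 := by omega
  have hD : (T \ (cOrb N a ∪ cOrb N b)).ncard = 1 := by
    rw [Set.ncard_sdiff hUsub (Set.toFinite _), hTcard, hU6]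
  obtain ⟨c, hc⟩ := Set.ncard_eq_one.mp hD
  have hcm : c ∈ T \ (cOrb N a ∪ cOrb N b) := by rw [hc]; rfl
  have hcT : c ∈ T := hcm.1
  have hcO : cOrb N c ⊆ {c} := by
    rw [← hc]
    intro y hy
    refine ⟨hsub c hcT hy, ?_⟩
    rintro (h | h)
    · apply hcm.2
      left
      rw [← cOrb_eq_of_mem N h, cOrb_eq_of_mem N hy]
      exact cOrb_self N c
    · apply hcm.2
      right
      rw [← cOrb_eq_of_mem N h, cOrb_eq_of_mem N hy]
      exact cOrb_self N c
  have := Set.ncard_le_ncard hcO (Set.toFinite _)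
  rw [Set.ncard_singleton] at this
  have := hge3 c hcT
  omega

end Cfsg.Agent.Lib.Helper42.Ree
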